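import Groth.Agent.Lib.RegSheaf.BaseChange
import Groth.Agent.Lib.RatSing29.GGH1
import Groth.Agent.Lib.FunMor20.Coprod
import Groth.Agent.Lib.HilbStrat10.Bc0
import Groth.Agent.Lib.GenFlatBC9.TensorSec
import Groth.Agent.Lib.OX.QCohTensor
import Groth.Agent.Lib.FittSheaf.Pullback

/-!
# Quasi-coherent modules pulled back from the base to relative projective space
-/

universe u

set_option backward.isDefEq.respectTransparency false
set_option linter.style.haveILetI false

open AlgebraicGeometry CategoryTheory CategoryTheory.Limits TopologicalSpace Opposite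

noncomputable section

namespace GrothLib.RegQCoh16

open RegSheaf

theorem exists_sigma_epi {X : Scheme.{u}} [IsAffine X] (F : X.Modules) [F.IsQuasicoherent] :
    ∃ (ι : Type u) (p : (∐ fun _ : ι => Coh.structureModule X) ⟶ F), Epi p := by
  obtain ⟨ι, p, hp⟩ : Curv2.IsGloballyGenerated F :=
    Ample.isGloballyGenerated_of_local F fun O t x hx => by
      obtain ⟨W, hW, hxW, hmem⟩ := RegSheaf.spanned_of_isAffine F O t x hx
      exact ⟨W, hW, hxW, by simpa using hmem⟩
  exact ⟨ι, p, hp⟩

theorem isQuasicoherent_sigma {X : Scheme.{u}} (ι : Type u) :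
    (∐ fun _ : ι => Coh.structureModule X).IsQuasicoherent :=
  QCoh.isQuasicoherent_colimit _ fun _ => inferInstanceAs (Coh.structureModule X).IsQuasicoherent

theorem isQuasicoherent_of_invertible {X : Scheme.{u}} {M : X.Modules} (hM : PicF.IsInvertible M) :
    M.IsQuasicoherent :=
  (Euler.isCoh_of_isFinLocFree (Euler.isFinLocFree_of_isInvertible hM)).1

theorem isQuasicoherent_tensorMod {X : Scheme.{u}} (P Q : X.Modules) [P.IsQuasicoherent] [Q.IsQuasicoherent] :
    (CohB1.tensorMod P Q).IsQuasicoherent :=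
  (GenFlatBC9.tens_eq_tensorMod P Q) ▸ GenFlatBC9.isQuasicoherent_tens P Q

theorem isQuasicoherent_twPull {n : ℕ} {R : Type u} [CommRing R] (d : ℤ)
    (G : (Spec (CommRingCat.of R)).Modules) [hG : G.IsQuasicoherent] : (twPull n R d G).IsQuasicoherent :=
  @isQuasicoherent_tensorMod _ (Twist.twistProjSpace n R d)
    ((Scheme.Modules.pullback (CohB1.ProjSpace.toSpec n R)).obj G)
    (isQuasicoherent_of_invertible (ProjPic26.isInvertible_twistProjSpace n R d))
    (@FittSheaf.isQuasicoherent_pullback _ _ (CohB1.ProjSpace.toSpec n R) G hG)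

/-- The cohomology of twists of quasi-coherent modules from the base. -/
theorem subsingleton_HH_twPull {n : ℕ} {R : Type u} [CommRing R] {d : ℤ} (hd : -(n : ℤ) ≤ d) :
    ∀ (j q : ℕ), q + j = n + 1 → (1 ≤ q ∨ d < 0) → ∀ G : (Spec (CommRingCat.of R)).Modules,
      G.IsQuasicoherent → Subsingleton (Coh.HH (CohB1.ProjSpace n R) (twPull n R d G) q) := by
  intro j
  induction j with
  | zero =>
    intro q hq _ G hG
    haveI := isQuasicoherent_twPull (n := n) d G
    exact subsingleton_HH_ring_of_lt _ (by omega)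
  | succ j ih =>
    intro q hq h1 G hG
    obtain ⟨ι, p, hp⟩ := exists_sigma_epi G
    haveI := isQuasicoherent_sigma (X := Spec (CommRingCat.of R)) ι
    let S := ShortComplex.mk (kernel.ι p) p (kernel.condition p)
    have hS : S.ShortExact := { exact := ShortComplex.exact_of_f_is_kernel _ (kernelIsKernel p) }
    haveI : Smooth (CohB1.ProjSpace.toSpec n R) := CurveMult.smooth_toSpec n R
    haveI := Chow.isProper_toSpec n R
    haveI : (Scheme.Modules.pullback (CohB1.ProjSpace.toSpec n R)).Additive :=
      (Scheme.Modules.pullbackPushforwardAdjunction _).left_adjoint_additive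
    haveI : (Scheme.Modules.pullback (CohB1.ProjSpace.toSpec n R)).IsLeftAdjoint :=
      (Scheme.Modules.pullbackPushforwardAdjunction _).isLeftAdjoint
    have h2 := EulerPull.shortExact_pullback (CohB1.ProjSpace.toSpec n R) hS
    have h3 := (ShortComplex.shortExact_iff_of_iso ((S.map (Scheme.Modules.pullback
      (CohB1.ProjSpace.toSpec n R))).mapNatIso (OX.tensorBraiding.app (Twist.twistProjSpace n R d)))).1
        (OX.tensor_map_shortExact (OX.flat_of_isFinLocFree
          (Euler.isFinLocFree_of_isInvertible (ProjPic26.isInvertible_twistProjSpace n R d))) h2)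
    refine CMReg.subsingleton_X₃ h3 ?_ (ih (q + 1) (by omega) (Or.inl (by omega)) (kernel p)
      (QCoh.isQuasicoherent_kernel p))
    haveI : CompactSpace (CohB1.ProjSpace n R) :=
      QuasiCompact.compactSpace_of_compactSpace (CohB1.ProjSpace.toSpec n R)
    haveI : QuasiSeparatedSpace (CohB1.ProjSpace n R) :=
      quasiSeparatedSpace_of_quasiSeparated (CohB1.ProjSpace.toSpec n R)
    haveI : PreservesColimitsOfSize.{u, u}
        ((DCoh.tensorBi (X := CohB1.ProjSpace n R)).obj (Twist.twistProjSpace n R d)) :=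
      @preservesColimits_of_natIso _ _ _ _ _ _ (OX.tensorBraiding.app (Twist.twistProjSpace n R d))
        (OX.preservesColimitsOfSize_tensorBi_flip_obj _)
    refine CMReg.subsingleton_of_iso (?_ : (∐ fun _ : ι => Twist.twistProjSpace n R d) ≅ _)
      (RatSing29.subsingleton_HH_coprod _ _ fun _ =>
        ProjCohom.subsingleton_HH (by omega) (by omega))
    exact Sigma.mapIso (fun _ => (OX.tensorUnitLeftIso _).symm ≪≫
        GrTilde.tensorModComm _ _ ≪≫
        Ample.LineData.tensorModMapIso (Iso.refl _) (PicLoc.pullbackStructureIso _).symm) ≪≫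
      (PreservesCoproduct.iso ((DCoh.tensorBi (X := CohB1.ProjSpace n R)).obj (Twist.twistProjSpace n R d))
        (fun _ : ι => (Scheme.Modules.pullback (CohB1.ProjSpace.toSpec n R)).obj
          (Coh.structureModule (Spec (CommRingCat.of R))))).symm ≪≫
      ((DCoh.tensorBi (X := CohB1.ProjSpace n R)).obj (Twist.twistProjSpace n R d)).mapIso
        (PreservesCoproduct.iso (Scheme.Modules.pullback (CohB1.ProjSpace.toSpec n R))
          (fun _ : ι => Coh.structureModule (Spec (CommRingCat.of R)))).symm

variable {n : ℕ} {Y : Scheme.{u}}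

/-- `R^q p_*` of twists of quasi-coherent modules from the base. -/
theorem van_twF_pullback (G : Y.Modules) [G.IsQuasicoherent] {d : ℤ}
    (hd : -(n : ℤ) ≤ d) {q : ℕ} (hq : 1 ≤ q ∨ d < 0) :
    Van (KRR.pr n Y) (KRR.twF n Y d ((Scheme.Modules.pullback (KRR.pr n Y)).obj G)) q := by
  refine Cohom.isZero_RpushAb_of_basis (f := KRR.pr n Y) (Coh.toAb _) q Y.isBasis_affineOpens fun V hV => ?_
  obtain ⟨ω, hω1, hω⟩ := ProjPic26.exists_isPullback_point (n := n) Y (IsAffineOpen.fromSpec hV)
  haveI : IsOpenImmersion ω := MorphismProperty.of_isPullback (P := @IsOpenImmersion) hω.flip inferInstance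
  have hr : ω ''ᵁ ⊤ = KRR.pr n Y ⁻¹ᵁ V := by
    have h2 := IsOpenImmersion.image_preimage_eq_preimage_image_of_isPullback hω.flip ⊤
    rw [Scheme.Hom.preimage_top, Scheme.Hom.image_top_eq_opensRange (IsAffineOpen.fromSpec hV),
      IsAffineOpen.opensRange_fromSpec hV] at h2
    exact h2
  obtain ⟨φ⟩ := ProjCohom.nonempty_pullback_twistOver n Y d hω1
  let M := KRR.twF n Y d ((Scheme.Modules.pullback (KRR.pr n Y)).obj G)
  let G' := (Scheme.Modules.pullback (IsAffineOpen.fromSpec hV)).obj G
  haveI : G'.IsQuasicoherent := FittSheaf.isQuasicoherent_pullback _ G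
  let e₁ : (Scheme.Modules.pullback ω).obj ((Scheme.Modules.pullback (KRR.pr n Y)).obj G) ≅
      (Scheme.Modules.pullback (CohB1.ProjSpace.toSpec n Γ(Y, V))).obj G' :=
    (Scheme.Modules.pullbackComp ω (KRR.pr n Y)).app G ≪≫ (Scheme.Modules.pullbackCongr hω.w).app G ≪≫
      ((Scheme.Modules.pullbackComp (CohB1.ProjSpace.toSpec n Γ(Y, V)) (IsAffineOpen.fromSpec hV)).app G).symm
  let e₂ : twPull n Γ(Y, V) d G' ≅ M.restrict ω :=
    Ample.LineData.tensorModMapIso φ.symm e₁.symm ≪≫
      (OX.pullTensorIso ω (Twist.twistOver n Y d) ((Scheme.Modules.pullback (KRR.pr n Y)).obj G)).symm ≪≫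
      ((Scheme.Modules.restrictFunctorIsoPullback ω).app M).symm
  have h1 : Subsingleton (Coh.HH (CohB1.ProjSpace n Γ(Y, V)) (M.restrict ω) q) := by
    by_cases hqn : n < q
    · exact CMReg.subsingleton_of_iso e₂ (@subsingleton_HH_ring_of_lt n _ _ _ (isQuasicoherent_twPull d G') q hqn)
    · exact CMReg.subsingleton_of_iso e₂ (subsingleton_HH_twPull hd (n + 1 - q) q (by omega) hq G' inferInstance)
  obtain ⟨e⟩ := Cohom.nonempty_ext_image_equiv ω M ⊤ q
  rw [hr] at e
  exact (e.trans (Cohom.HEquivTop _ q).symm).toEquiv.subsingleton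

/-- Negative twists of modules from the base have no direct image. -/
theorem isZero_push_twF (G : Y.Modules) [G.IsQuasicoherent] {d : ℤ} (hd : -(n : ℤ) ≤ d) (hd' : d < 0) :
    IsZero ((Scheme.Modules.pushforward (KRR.pr n Y)).obj
      (KRR.twF n Y d ((Scheme.Modules.pullback (KRR.pr n Y)).obj G))) := by
  let M := KRR.twF n Y d ((Scheme.Modules.pullback (KRR.pr n Y)).obj G)
  have h : IsZero ((Coh.pushAb (KRR.pr n Y)).obj (Coh.toAb M)) :=
    (van_twF_pullback G hd (q := 0) (Or.inr hd')).of_iso
      ((Coh.pushAb (KRR.pr n Y)).rightDerivedZeroIsoSelf.app _).symm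
  have : (QCoh.toAbFun Y).Faithful := inferInstanceAs (SheafOfModules.toSheaf _).Faithful
  exact (IsZero.iff_id_eq_zero _).2 ((QCoh.toAbFun Y).map_injective (h.eq_of_src _ _))

theorem isIso_unit_structure :
    IsIso ((Scheme.Modules.pullbackPushforwardAdjunction (KRR.pr n Y)).unit.app (Coh.structureModule Y)) := by
  haveI : GeometricallyIntegral (KRR.pr n Y) := ProjPic26.geometricallyIntegral_toBase Y
  have h := Seesaw26.invertible_push_structure (KRR.pr n Y) (Seesaw26.h0_of_geometricallyIntegral (KRR.pr n Y))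
  exact UnitLF26.isIso_unit_structureModule (KRR.pr n Y) (Seesaw26.bijective_app_of_invertible (KRR.pr n Y) h)

/-- Over an affine base the unit is epi on quasi-coherent modules. -/
theorem epi_unit_of_isAffine [IsAffine Y] (G : Y.Modules) [G.IsQuasicoherent] :
    Epi ((Scheme.Modules.pullbackPushforwardAdjunction (KRR.pr n Y)).unit.app G) := by
  let adj := Scheme.Modules.pullbackPushforwardAdjunction (KRR.pr n Y)
  let F := Scheme.Modules.pullback (KRR.pr n Y) ⋙ Scheme.Modules.pushforward (KRR.pr n Y)
  obtain ⟨ι, a, ha⟩ := exists_sigma_epi G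
  haveI := isQuasicoherent_sigma (X := Y) ι
  haveI := Chow.isProper_toBase n Y
  haveI : (Scheme.Modules.pullback (KRR.pr n Y)).IsLeftAdjoint := adj.isLeftAdjoint
  haveI : (Scheme.Modules.pullback (KRR.pr n Y)).Additive := adj.left_adjoint_additive
  haveI := FunMor20.preservesColimitsOfShape_pushforward_discrete (KRR.pr n Y) ι
  haveI : PreservesColimitsOfShape (Discrete ι) F :=
    inferInstanceAs (PreservesColimitsOfShape (Discrete ι)
      (Scheme.Modules.pullback (KRR.pr n Y) ⋙ Scheme.Modules.pushforward (KRR.pr n Y)))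
  haveI := isIso_unit_structure (n := n) (Y := Y)
  let M : ι → Y.Modules := fun _ => Coh.structureModule Y
  haveI hη : IsIso (adj.unit.app (∐ M)) := by
    let w : Discrete.functor M ≅ Discrete.functor M ⋙ F :=
      Discrete.natIso fun _ => asIso (adj.unit.app (Coh.structureModule Y))
    let e := IsColimit.coconePointsIsoOfNatIso (colimit.isColimit (Discrete.functor M))
      (isColimitOfPreserves F (colimit.isColimit (Discrete.functor M))) w
    have he : adj.unit.app (∐ M) = e.hom := colimit.hom_ext fun ⟨i⟩ =>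
      (adj.unit.naturality (Sigma.ι M i)).trans
        (IsColimit.comp_coconePointsIsoOfNatIso_hom (colimit.isColimit (Discrete.functor M))
          (isColimitOfPreserves F (colimit.isColimit (Discrete.functor M))) w ⟨i⟩).symm
    rw [he]
    infer_instance
  let S := ShortComplex.mk (kernel.ι a) a (kernel.condition a)
  have hS : S.ShortExact := { exact := ShortComplex.exact_of_f_is_kernel _ (kernelIsKernel a) }
  have h2 := EulerPull.shortExact_pullback (KRR.pr n Y) hS
  haveI : (kernel a).IsQuasicoherent := QCoh.isQuasicoherent_kernel a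
  have h1 : Van (KRR.pr n Y) ((Scheme.Modules.pullback (KRR.pr n Y)).obj (kernel a)) 1 :=
    van_of_iso _ (nonempty_twF_zero _).some (van_twF_pullback (kernel a) (d := 0) (by omega) (Or.inl le_rfl))
  haveI : Epi (F.map a) := (shortExact_map_pushforward (KRR.pr n Y) h2 h1).epi_g
  have hnat := adj.unit.naturality a
  haveI : Epi (a ≫ adj.unit.app G) := by
    have h' : a ≫ adj.unit.app G = adj.unit.app (∐ M) ≫ F.map a := hnat
    rw [h']
    infer_instance
  exact epi_of_epi a _

variable {Y₁ : Scheme.{u}} (φ : Y₁ ⟶ Y)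

/-- The base change map and the units. -/
theorem map_unit_comp_bcMap (T : Y.Modules) :
    (Scheme.Modules.pullback φ).map ((Scheme.Modules.pullbackPushforwardAdjunction (KRR.pr n Y)).unit.app T) ≫
        KRR.bcMap n φ (projSpaceMap_snd φ) ((Scheme.Modules.pullback (KRR.pr n Y)).obj T) =
      (Scheme.Modules.pullbackPushforwardAdjunction (KRR.pr n Y₁)).unit.app ((Scheme.Modules.pullback φ).obj T) ≫
        (Scheme.Modules.pushforward (KRR.pr n Y₁)).map
          ((Scheme.Modules.pullbackComp (KRR.pr n Y₁) φ).hom.app T ≫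
            (Scheme.Modules.pullbackCongr (projSpaceMap_snd φ).symm).hom.app T ≫
            (Scheme.Modules.pullbackComp (KRR.projSpaceMap n φ) (KRR.pr n Y)).inv.app T) := by
  let adj := Scheme.Modules.pullbackPushforwardAdjunction (KRR.pr n Y)
  let adj₁ := Scheme.Modules.pullbackPushforwardAdjunction (KRR.pr n Y₁)
  have h := adj.left_triangle_components T
  refine ((adj₁.homEquiv_naturality_left _ _).symm.trans (Eq.trans (congrArg (adj₁.homEquiv _ _) ?_)
    (adj₁.homEquiv_unit _ _ _)))
  erw [← Category.assoc ((Scheme.Modules.pullback (KRR.pr n Y₁)).map _),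
    (Scheme.Modules.pullbackComp (KRR.pr n Y₁) φ).hom.naturality (adj.unit.app T)]
  simp only [Category.assoc]
  congr 1
  erw [← Category.assoc ((Scheme.Modules.pullback (KRR.pr n Y₁ ≫ φ)).map _),
    (Scheme.Modules.pullbackCongr (projSpaceMap_snd φ).symm).hom.naturality (adj.unit.app T)]
  simp only [Category.assoc]
  congr 1
  erw [← Category.assoc ((Scheme.Modules.pullback (KRR.projSpaceMap n φ ≫ KRR.pr n Y)).map _),
    (Scheme.Modules.pullbackComp (KRR.projSpaceMap n φ) (KRR.pr n Y)).inv.naturality (adj.unit.app T)]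
  simp only [Category.assoc, Functor.comp_map]
  rw [← Functor.map_comp]
  erw [h]
  simp

/-- The unit is an isomorphism on quasi-coherent modules where it is a split monomorphism. -/
theorem isIso_unit (G : Y.Modules) [G.IsQuasicoherent]
    [IsSplitMono ((Scheme.Modules.pullbackPushforwardAdjunction (KRR.pr n Y)).unit.app G)] :
    IsIso ((Scheme.Modules.pullbackPushforwardAdjunction (KRR.pr n Y)).unit.app G) := by
  let η := (Scheme.Modules.pullbackPushforwardAdjunction (KRR.pr n Y)).unit.app G
  haveI : IsSplitMono η := ‹IsSplitMono ((Scheme.Modules.pullbackPushforwardAdjunction (KRR.pr n Y)).unit.app G)›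
  refine OX.isIso_of_restrict_cover η (fun V : Y.affineOpens => V.1) (fun x => ?_) fun V => ?_
  · obtain ⟨U, hU, hx, -⟩ := exists_isAffineOpen_mem_and_subset (x := x) (U := ⊤) trivial
    exact ⟨⟨U, hU⟩, hx⟩
  haveI : IsAffine V.1.toScheme := V.2
  let j := V.1.ι
  haveI : IsIso (KRR.bcMap n j (projSpaceMap_snd j) ((Scheme.Modules.pullback (KRR.pr n Y)).obj G)) := by
    rw [bcMap_eq_bc0]
    exact HilbStrat10.isIso_bc0_of_isOpenImmersion (isPullback_projSpaceMap j) _
  haveI : ((Scheme.Modules.pullback j).obj G).IsQuasicoherent := FittSheaf.isQuasicoherent_pullback _ G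
  haveI := epi_unit_of_isAffine (n := n) ((Scheme.Modules.pullback j).obj G)
  haveI h1 : Epi ((Scheme.Modules.pullback j).map η ≫
      KRR.bcMap n j (projSpaceMap_snd j) ((Scheme.Modules.pullback (KRR.pr n Y)).obj G)) := by
    rw [map_unit_comp_bcMap]
    infer_instance
  haveI h2 : Epi ((Scheme.Modules.pullback j).map η) := by
    have : Epi (((Scheme.Modules.pullback j).map η ≫
      KRR.bcMap n j (projSpaceMap_snd j) ((Scheme.Modules.pullback (KRR.pr n Y)).obj G)) ≫
      inv (KRR.bcMap n j (projSpaceMap_snd j) ((Scheme.Modules.pullback (KRR.pr n Y)).obj G))) := inferInstance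
    simpa using this
  haveI : IsIso ((Scheme.Modules.pullback j).map η) := isIso_of_epi_of_isSplitMono _
  exact (NatIso.isIso_map_iff (Scheme.Modules.restrictFunctorIsoPullback j) η).2 inferInstance

/-- The direct image of the counit is an isomorphism. -/
theorem isIso_push_counit (F : (KRR.PY n Y).Modules) [F.IsQuasicoherent] :
    IsIso ((Scheme.Modules.pushforward (KRR.pr n Y)).map
      ((Scheme.Modules.pullbackPushforwardAdjunction (KRR.pr n Y)).counit.app F)) := by
  let adj := Scheme.Modules.pullbackPushforwardAdjunction (KRR.pr n Y)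
  haveI := Chow.isProper_toBase n Y
  haveI := QCoh.isQuasicoherent_pushforward (KRR.pr n Y) F
  have h := adj.right_triangle_components F
  haveI : IsSplitMono (adj.unit.app ((Scheme.Modules.pushforward (KRR.pr n Y)).obj F)) :=
    IsSplitMono.mk' ⟨_, h⟩
  haveI := isIso_unit (n := n) ((Scheme.Modules.pushforward (KRR.pr n Y)).obj F)
  haveI : IsIso (adj.unit.app ((Scheme.Modules.pushforward (KRR.pr n Y)).obj F) ≫
      (Scheme.Modules.pushforward (KRR.pr n Y)).map (adj.counit.app F)) := by rw [h]; infer_instance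
  exact IsIso.of_isIso_comp_left (adj.unit.app ((Scheme.Modules.pushforward (KRR.pr n Y)).obj F)) _

end GrothLib.RegQCoh16
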